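import Cfsg.Agent.Known.SympUnipClasses.Top
import Mathlib

/-! # Labels and signed partitions -/

set_option autoImplicit false
set_option linter.style.haveILetI false

open Polynomial Cfsg.Lib.ClassNumberSp
open scoped Classical

namespace Cfsg.Lib.SympUnipClasses

universe u

variable {F : Type u} [Field F]

/-- The multisets of labels of the unipotent classes with exponents at most `p`. -/
def IsLabel (p m : ℕ) (M : Multiset (Key F)) : Prop :=
  (∀ k ∈ M, UKey p k) ∧ (M.map Key.size).sum = 2 * m ∧ ∀ e, M.count (Key.one true e false) ≤ 1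

/-- The block sizes of a label. -/
noncomputable def kparts : Key F → Multiset ℕ
  | .cyc _ _ => 0
  | .one _ e _ => {e}
  | .pair _ e => Multiset.replicate 2 e

theorem kparts_sum {p : ℕ} {k : Key F} (hk : UKey p k) : (kparts k).sum = k.size := by
  rcases k with ⟨Q, e⟩ | ⟨b, e, s⟩ | ⟨b, e⟩
  · exact hk.elim
  · simp [kparts, Key.size]
  · simp [kparts, Key.size, two_mul]

theorem count_bind_parts {p : ℕ} (M : Multiset (Key F)) (hM : ∀ k ∈ M, UKey p k) (e : ℕ) :
    (M.bind kparts).count e =
      M.count (Key.one true e false) + M.count (Key.one true e true) + 2 * M.count (Key.pair true e) := by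
  induction M using Multiset.induction with
  | empty => simp
  | cons k M ih =>
    have hk := hM k (Multiset.mem_cons_self _ _)
    rw [Multiset.cons_bind, Multiset.count_add, ih fun x hx => hM x (Multiset.mem_cons_of_mem hx)]
    simp only [Multiset.count_cons]
    rcases k with ⟨Q, f⟩ | ⟨b, f, s⟩ | ⟨b, f⟩
    · exact hk.elim
    · obtain ⟨rfl, -⟩ := hk
      by_cases hf : f = e <;> cases s <;>
        simp [kparts, Multiset.count_singleton, hf, Ne.symm, eq_comm (a := e)] <;> omega
    · obtain ⟨rfl, -⟩ := hk
      by_cases hf : f = e <;> simp [kparts, Multiset.count_replicate, hf, eq_comm (a := e)] <;> omega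

/-- The labels of the parts of one size. -/
noncomputable def piece (S : Finset ℕ) (c e : ℕ) : Multiset (Key F) :=
  if Even e then
    (if e ∈ S then Key.one true e false ::ₘ Multiset.replicate (c - 1) (Key.one true e true)
      else Multiset.replicate c (Key.one true e true))
  else Multiset.replicate (c / 2) (Key.pair true e)

/-- The labels of a signed partition. -/
noncomputable def ofSigned (F : Type u) [Field F] {n : ℕ} (μ : Nat.Partition n) (S : Finset ℕ) : Multiset (Key F) :=
  ∑ e ∈ μ.parts.toFinset, piece S (μ.parts.count e) e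

theorem mem_piece {S : Finset ℕ} {c e : ℕ} {k : Key F} (h : k ∈ piece S c e) :
    (∃ s, k = Key.one true e s ∧ Even e) ∨ (k = Key.pair true e ∧ ¬ Even e) := by
  rw [piece] at h
  split_ifs at h with he hS
  · rcases Multiset.mem_cons.1 h with h | h
    · exact Or.inl ⟨_, h, he⟩
    · exact Or.inl ⟨_, Multiset.eq_of_mem_replicate h, he⟩
  · exact Or.inl ⟨_, Multiset.eq_of_mem_replicate h, he⟩
  · exact Or.inr ⟨Multiset.eq_of_mem_replicate h, he⟩

variable {n : ℕ} (μ : Nat.Partition n) {S : Finset ℕ}

theorem count_ofSigned (k : Key F) (e : ℕ) (hk : k = Key.one true e false ∨ k = Key.one true e true ∨ k = Key.pair true e)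
    (hS : ∀ x ∈ S, x ∈ μ.parts) :
    (ofSigned F μ S).count k = (piece (F := F) S (μ.parts.count e) e).count k := by
  rw [ofSigned, Multiset.count_sum']
  refine Finset.sum_eq_single e (fun f _ hne => Multiset.count_eq_zero.2 fun hmem => ?_) fun hmem => ?_
  · rcases mem_piece hmem with ⟨s, h, -⟩ | ⟨h, -⟩ <;> rcases hk with rfl | rfl | rfl <;> simp at h <;>
      first | exact hne h.1.symm | exact hne h.symm
  · rw [Multiset.mem_toFinset] at hmem
    have h0 : μ.parts.count e = 0 := Multiset.count_eq_zero.2 hmem
    have hS' : e ∉ S := fun h => hmem (hS e h)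
    simp [piece, h0, hS']

theorem count_false (e : ℕ) (hS : ∀ x ∈ S, x ∈ μ.parts ∧ Even x) :
    (ofSigned F μ S).count (Key.one true e false) = if e ∈ S then 1 else 0 := by
  rw [count_ofSigned μ _ e (Or.inl rfl) fun x hx => (hS x hx).1, piece]
  by_cases he : Even e
  · by_cases h : e ∈ S <;> simp [he, h, Multiset.count_cons, Multiset.count_replicate]
  · have h : e ∉ S := fun h => he (hS e h).2
    simp [he, h, Multiset.count_replicate]

theorem count_true (e : ℕ) (hS : ∀ x ∈ S, x ∈ μ.parts ∧ Even x) :
    (ofSigned F μ S).count (Key.one true e true) =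
      if Even e then μ.parts.count e - (if e ∈ S then 1 else 0) else 0 := by
  rw [count_ofSigned μ _ e (Or.inr (Or.inl rfl)) fun x hx => (hS x hx).1, piece]
  by_cases he : Even e
  · by_cases h : e ∈ S <;> simp [he, h, Multiset.count_cons, Multiset.count_replicate]
  · simp [he, Multiset.count_replicate]

theorem count_pair (e : ℕ) (hS : ∀ x ∈ S, x ∈ μ.parts ∧ Even x) :
    (ofSigned F μ S).count (Key.pair true e) = if Even e then 0 else μ.parts.count e / 2 := by
  rw [count_ofSigned μ _ e (Or.inr (Or.inr rfl)) fun x hx => (hS x hx).1, piece]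
  by_cases he : Even e
  · by_cases h : e ∈ S <;> simp [he, h, Multiset.count_cons, Multiset.count_replicate]
  · simp [he, Multiset.count_replicate]

theorem size_piece (c e : ℕ) (hS : e ∈ S → 1 ≤ c) (hodd : Odd e → Even c) :
    ((piece (F := F) S c e).map Key.size).sum = c * e := by
  by_cases he : Even e
  · by_cases h : e ∈ S
    · have := hS h
      obtain ⟨d, rfl⟩ := Nat.exists_eq_add_of_le' this
      simp [piece, he, h, Key.size, add_mul, add_comm]
    · simp [piece, he, h, Key.size]
  · obtain ⟨d, rfl⟩ := hodd (Nat.not_even_iff_odd.1 he)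
    simp [piece, he, Key.size, ← two_mul]
    ring

/-- The signed partitions of `2 * m` with parts at most `p`. -/
noncomputable def signed (p m : ℕ) : Finset (Σ _ : Nat.Partition (2 * m), Finset ℕ) :=
  (Finset.univ.filter (fun μ : Nat.Partition (2 * m) =>
    (∀ a ∈ μ.parts, a ≤ p) ∧ ∀ j : ℕ, Odd j → Even (μ.parts.count j))).sigma
    fun μ => (μ.parts.toFinset.filter (fun j : ℕ => Even j)).powerset

theorem card_labels (p m : ℕ) :
    Nat.card {M : Multiset (Key F) // IsLabel p m M} = (signed p m).card := by
  have hmem : ∀ x : {x // x ∈ signed p m}, (∀ a ∈ x.1.1.parts, a ≤ p) ∧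
      (∀ j, Odd j → Even (x.1.1.parts.count j)) ∧ ∀ y ∈ x.1.2, y ∈ x.1.1.parts ∧ Even y := by
    rintro ⟨⟨μ, S⟩, hx⟩
    simp only [signed, Finset.mem_sigma, Finset.mem_filter, Finset.mem_univ, true_and, Finset.mem_powerset] at hx
    refine ⟨hx.1.1, hx.1.2, fun y hy => ?_⟩
    have := hx.2 hy
    rw [Finset.mem_filter, Multiset.mem_toFinset] at this
    exact this
  have hlab : ∀ x : {x // x ∈ signed p m}, IsLabel p m (ofSigned F x.1.1 x.1.2) := by
    intro x
    obtain ⟨hp, hodd, hS⟩ := hmem x
    refine ⟨fun k hk => ?_, ?_, fun e => ?_⟩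
    · rw [ofSigned, Multiset.mem_sum] at hk
      obtain ⟨e, he, hke⟩ := hk
      rw [Multiset.mem_toFinset] at he
      rcases mem_piece hke with ⟨s, rfl, heven⟩ | ⟨rfl, hne⟩
      · exact ⟨rfl, x.1.1.parts_pos he, heven, hp e he⟩
      · exact ⟨rfl, Nat.not_even_iff_odd.1 hne, hp e he⟩
    · have : ∀ s : Finset ℕ, ((∑ e ∈ s, piece (F := F) x.1.2 (x.1.1.parts.count e) e).map Key.size).sum =
          ∑ e ∈ s, ((piece (F := F) x.1.2 (x.1.1.parts.count e) e).map Key.size).sum := by
        intro s
        induction s using Finset.induction_on with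
        | empty => simp
        | insert a s ha ih => rw [Finset.sum_insert ha, Finset.sum_insert ha, Multiset.map_add, Multiset.sum_add, ih]
      rw [ofSigned, this]
      refine Eq.trans ?_ x.1.1.parts_sum
      rw [Finset.sum_multiset_count x.1.1.parts]
      refine Finset.sum_congr rfl fun e he => ?_
      rw [smul_eq_mul, size_piece _ e (fun h => Multiset.one_le_count_iff_mem.2 (hS e h).1) (hodd e)]
    · rw [count_false _ e hS]; split_ifs <;> simp
  refine (Nat.card_congr (Equiv.ofBijective (fun x => (⟨_, hlab x⟩ : {M : Multiset (Key F) // IsLabel p m M}))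
    ⟨fun x y h => ?_, fun M => ?_⟩)).symm.trans ?_
  · obtain ⟨-, hox, hSx⟩ := hmem x
    obtain ⟨-, hoy, hSy⟩ := hmem y
    have h' : ofSigned F x.1.1 x.1.2 = ofSigned F y.1.1 y.1.2 := congrArg Subtype.val h
    have hS : x.1.2 = y.1.2 := by
      ext e
      have h1 := congrArg (Multiset.count (Key.one true e false)) h'
      rw [count_false _ e hSx, count_false _ e hSy] at h1
      by_cases a : e ∈ x.1.2 <;> by_cases b : e ∈ y.1.2 <;> simp_all
    have hμ : x.1.1 = y.1.1 := by
      refine Nat.Partition.ext (Multiset.ext.2 fun e => ?_)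
      by_cases he : Even e
      · have h1 := congrArg (Multiset.count (Key.one true e true)) h'
        rw [count_true _ e hSx, count_true _ e hSy, if_pos he, if_pos he, hS] at h1
        by_cases a : e ∈ y.1.2
        · have := Multiset.one_le_count_iff_mem.2 (hSy e a).1
          have := Multiset.one_le_count_iff_mem.2 (hSx e (hS ▸ a)).1
          rw [if_pos a] at h1
          omega
        · rw [if_neg a] at h1
          omega
      · have h1 := congrArg (Multiset.count (Key.pair true e)) h'
        rw [count_pair _ e hSx, count_pair _ e hSy, if_neg he, if_neg he] at h1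
        have e1 := Nat.two_mul_div_two_of_even (hox e (Nat.not_even_iff_odd.1 he))
        have e2 := Nat.two_mul_div_two_of_even (hoy e (Nat.not_even_iff_odd.1 he))
        omega
    exact Subtype.ext (Sigma.ext hμ (heq_of_eq hS))
  · obtain ⟨M, hU, hsize, hns⟩ := M
    have hbind : (M.bind kparts).sum = 2 * m := by
      rw [Multiset.sum_bind, ← hsize, Multiset.map_congr rfl fun k hk => kparts_sum (hU k hk)]
    have hmemk : ∀ e ∈ M.bind kparts, 1 ≤ e ∧ e ≤ p := by
      intro e he
      obtain ⟨k, hk, hek⟩ := Multiset.mem_bind.1 he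
      have := hU k hk
      rcases k with ⟨Q, f⟩ | ⟨b, f, s⟩ | ⟨b, f⟩
      · exact this.elim
      · rw [kparts, Multiset.mem_singleton] at hek
        subst hek
        exact ⟨this.2.1, this.2.2.2⟩
      · have := Multiset.eq_of_mem_replicate hek
        subst this
        exact ⟨(hU _ hk).2.1.pos, (hU _ hk).2.2⟩
    let μ : Nat.Partition (2 * m) := ⟨M.bind kparts, fun {e} he => (hmemk e he).1, hbind⟩
    have absent : ∀ k, ¬ UKey p k → M.count k = 0 := fun k hk => Multiset.count_eq_zero.2 fun h => hk (hU k h)
    have hcnt := count_bind_parts M hU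
    have hodd : ∀ j, Odd j → Even (μ.parts.count j) := fun j hj => by
      show Even ((M.bind kparts).count j)
      rw [hcnt, absent (Key.one true j false) fun h => Nat.not_even_iff_odd.2 hj h.2.2.1,
        absent (Key.one true j true) fun h => Nat.not_even_iff_odd.2 hj h.2.2.1, zero_add, zero_add]
      exact even_two_mul _
    let S := (μ.parts.toFinset.filter (fun j : ℕ => Even j)).filter fun j => M.count (Key.one true j false) = 1
    have hx : (⟨μ, S⟩ : Σ _ : Nat.Partition (2 * m), Finset ℕ) ∈ signed p m := by
      simp only [signed, Finset.mem_sigma, Finset.mem_filter, Finset.mem_univ, true_and, Finset.mem_powerset]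
      exact ⟨⟨fun a ha => (hmemk a ha).2, hodd⟩, Finset.filter_subset _ _⟩
    obtain ⟨hp', -, hS⟩ := hmem ⟨_, hx⟩
    have hSiff : ∀ e, e ∈ S ↔ M.count (Key.one true e false) = 1 := by
      intro e
      simp only [S, Finset.mem_filter, Multiset.mem_toFinset]
      refine ⟨fun h => h.2, fun h => ?_⟩
      have hmemM : Key.one true e false ∈ M := Multiset.one_le_count_iff_mem.1 h.ge
      refine ⟨⟨Multiset.one_le_count_iff_mem.1 ?_, (hU _ hmemM).2.2.1⟩, h⟩
      show 1 ≤ (M.bind kparts).count e
      rw [hcnt]; omega
    refine ⟨⟨_, hx⟩, Subtype.ext (Multiset.ext.2 fun k => ?_)⟩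
    by_cases hk : UKey p k
    · rcases k with ⟨Q, e⟩ | ⟨b, e, s⟩ | ⟨b, e⟩
      · exact hk.elim
      · obtain ⟨rfl, -, he, -⟩ := hk
        have z : M.count (Key.pair true e) = 0 := absent _ fun h => Nat.not_odd_iff_even.2 he h.2.1
        have := hns e
        cases s
        · show (ofSigned F μ S).count _ = M.count (Key.one true e false)
          rw [count_false μ e hS]
          by_cases a : e ∈ S
          · rw [if_pos a, (hSiff e).1 a]
          · rw [if_neg a]
            have := mt (hSiff e).2 a
            omega
        · show (ofSigned F μ S).count _ = M.count (Key.one true e true)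
          rw [count_true μ e hS, if_pos he]
          show (M.bind kparts).count e - _ = M.count (Key.one true e true)
          rw [hcnt, z]
          by_cases a : e ∈ S
          · rw [if_pos a]; have := (hSiff e).1 a; omega
          · rw [if_neg a]
            have := mt (hSiff e).2 a
            omega
      · obtain ⟨rfl, he, -⟩ := hk
        have hne := Nat.not_even_iff_odd.2 he
        show (ofSigned F μ S).count _ = M.count (Key.pair true e)
        rw [count_pair μ e hS, if_neg hne]
        show (M.bind kparts).count e / 2 = M.count (Key.pair true e)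
        rw [hcnt, absent (Key.one true e false) fun h => hne h.2.2.1, absent (Key.one true e true) fun h => hne h.2.2.1, zero_add, zero_add]
        omega
    · rw [absent k hk]
      exact Multiset.count_eq_zero.2 fun h => hk ((hlab ⟨_, hx⟩).1 k h)
  · exact Nat.card_eq_finsetCard _

theorem card_signed (p m : ℕ) :
    (signed p m).card = ∑ μ ∈ Finset.univ.filter (fun μ : Nat.Partition (2 * m) =>
      (∀ a ∈ μ.parts, a ≤ p) ∧ ∀ j : ℕ, Odd j → Even (μ.parts.count j)),
      2 ^ ((μ.parts.toFinset.filter (fun j : ℕ => Even j)).card) := by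
  rw [signed, Finset.card_sigma]
  exact Finset.sum_congr rfl fun μ _ => Finset.card_powerset _

end Cfsg.Lib.SympUnipClasses
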