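import Cfsg.Agent.Known.SympUnipClasses.Models
import Cfsg.Agent.Known.SympUnipClasses.Labels
import Mathlib

/-! # The classes of elements of order `p` in a symplectic group of odd characteristic `p` -/

set_option autoImplicit false
set_option linter.style.haveILetI false

open Polynomial Matrix Cfsg.Lib.ClassNumberSp
open Cfsg.Lib.Classical (sympBilin sympBilin_isAlt mem_symplectic_iff_form)
open scoped Classical

namespace Cfsg.Lib.SympUnipClasses

universe u v

variable {F : Type u} [Field F]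

local notation "𝐋" => (X - C (sgn F true) : F[X])

theorem exponent_le (h2 : (2 : F) ≠ 0) {p e : ℕ} (he : 1 ≤ e) {b : Bool}
    (h : (X - C (sgn F b)) ^ e ∣ 𝐋 ^ p) : b = true ∧ e ≤ p := by
  have hb : b = true := by
    by_contra hb
    have h1 := (irreducible_X_sub_C (sgn F b)).prime.dvd_of_dvd_pow ((dvd_pow_self _ (by omega)).trans h)
    exact linear_ne h2 hb (eq_of_monic_of_associated (monic_X_sub_C _) (monic_X_sub_C _)
      ((irreducible_X_sub_C _).associated_of_dvd (irreducible_X_sub_C _) h1))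
  subst hb
  exact ⟨rfl, (pow_dvd_pow_iff (X_sub_C_ne_zero _) (irreducible_X_sub_C _).not_isUnit).1 h⟩

variable {V : Type v} [AddCommGroup V] [Module F V] {B : LinearMap.BilinForm F V} {N : ℕ} {a : Module.End F V}

theorem ukey_of_block (ha : Isom B N a) (hB : B.IsAlt) (h2 : (2 : F) ≠ 0) {p : ℕ} {k : Key F} {U : Submodule F V}
    (h : IsBlock B a k U) (hk : ∀ x ∈ U, aeval a (𝐋 ^ p) x = 0) : UKey p k := by
  rcases k with ⟨Q, e⟩ | ⟨b, e, s⟩ | ⟨b, e⟩
  · obtain ⟨hQ, he, v, hc, rfl⟩ := h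
    obtain ⟨hQm, -, hcop, -, hdeg⟩ := hQ.props h2
    have hd := hc.dvd_of_kills (hk v (self_mem_gen a v))
    have hl : 𝐋 ∣ (X : F[X]) ^ 2 - 1 := dvd_iff_isRoot.2 (by simp [sgn])
    have hu := ((hcop.of_isCoprime_of_dvd_right hl).pow (m := e) (n := p)).isUnit_of_dvd hd
    have := natDegree_eq_zero_of_isUnit hu
    rw [natDegree_pow] at this
    rcases Nat.mul_eq_zero.1 this with h0 | h0 <;> omega
  · obtain ⟨he, heven, v, hc, -, rfl⟩ := h
    obtain ⟨rfl, hle⟩ := exponent_le h2 he (hc.dvd_of_kills (hk v (self_mem_gen a v)))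
    exact ⟨rfl, he, heven, hle⟩
  · obtain ⟨v, w, hp, rfl⟩ := h
    obtain ⟨hd, -⟩ := hp.dvd_of_orth ha hB h2 (𝐋 ^ p) 0 fun y _ => by
      rw [hk v (Submodule.mem_sup_left (self_mem_gen a v)), map_zero, LinearMap.zero_apply, zero_add, map_zero,
        LinearMap.zero_apply]
    obtain ⟨rfl, hle⟩ := exponent_le h2 hp.pos hd
    exact ⟨rfl, hp.odd, hle⟩

theorem ukey_of_dec (ha : Isom B N a) (hB : B.IsAlt) (h2 : (2 : F) ≠ 0) {p : ℕ} {L : List (Key F)}
    {W : Submodule F V} (h : Dec B a L W) (hk : ∀ x ∈ W, aeval a (𝐋 ^ p) x = 0) : ∀ k ∈ L, UKey p k := fun k hkL => by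
  obtain ⟨U, hU, hb⟩ := h.exists_mem hkL
  exact ukey_of_block ha hB h2 hb fun x hx => hk x (hU hx)

theorem kills_of_dec {p : ℕ} {L : List (Key F)} {W : Submodule F V} (h : Dec B a L W) (hU : ∀ k ∈ L, UKey p k) :
    ∀ x ∈ W, aeval a (𝐋 ^ p) x = 0 := by
  induction h with
  | nil => intro x hx; rw [(Submodule.mem_bot F).1 hx, map_zero]
  | @cons k L U W hk _ _ ih =>
    intro x hx
    obtain ⟨y, hy, z, hz, rfl⟩ := Submodule.mem_sup.1 hx
    rw [map_add, ih (fun k' hk' => hU k' (List.mem_cons_of_mem _ hk')) z hz, add_zero]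
    have hu := hU k List.mem_cons_self
    rcases k with ⟨Q, e⟩ | ⟨b, e, s⟩ | ⟨b, e⟩
    · exact hu.elim
    · obtain ⟨rfl, -, -, hle⟩ := hu
      obtain ⟨-, -, v, hc, -, rfl⟩ := hk
      obtain ⟨g, rfl⟩ := mem_gen.1 hy
      rw [← aeval_mul_apply, show 𝐋 ^ p * g = 𝐋 ^ (p - e) * g * 𝐋 ^ e by
          rw [mul_right_comm, ← pow_add, Nat.sub_add_cancel hle], aeval_mul_apply, hc.kills, map_zero]
    · obtain ⟨rfl, -, hle⟩ := hu
      obtain ⟨v, w, hp, rfl⟩ := hk
      obtain ⟨g, r, rfl⟩ := mem_pairGen.1 hy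
      have e1 : ∀ g, 𝐋 ^ p * g = 𝐋 ^ (p - e) * g * 𝐋 ^ e := fun g => by
        rw [mul_right_comm, ← pow_add, Nat.sub_add_cancel hle]
      rw [map_add, ← aeval_mul_apply, ← aeval_mul_apply, e1, e1, aeval_mul_apply, hp.kill_left, map_zero,
        aeval_mul_apply, hp.kill_right, map_zero, add_zero]

theorem count_le_one_of_normal {L : List (Key F)} (h : Normal L) (e : ℕ) :
    Multiset.count (Key.one true e false) (L : Multiset (Key F)) ≤ 1 := by
  rw [Multiset.coe_count]
  by_contra hlt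
  have hmem : Key.one true e false ∈ L := List.count_pos_iff.1 (by omega)
  refine h true e _ (List.perm_cons_erase hmem) (List.count_pos_iff.1 ?_)
  rw [List.count_erase_self]
  omega

variable [Fintype F] {m p : ℕ}

/-- The symplectic group. -/
abbrev Spm (F : Type u) [Field F] (m : ℕ) : Type u := ↥(Matrix.symplecticGroup (Fin m) F)

/-- The endomorphism of a symplectic matrix. -/
noncomputable abbrev endo (g : (Spm F m)) : Module.End F (Fin m ⊕ Fin m → F) :=
  Matrix.toLin' (g : Matrix (Fin m ⊕ Fin m) (Fin m ⊕ Fin m) F)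

theorem pow_eq_one_iff_kills [Fact p.Prime] [CharP F p] (g : (Spm F m)) :
    g ^ p = 1 ↔ ∀ x ∈ (⊤ : Submodule F (Fin m ⊕ Fin m → F)), aeval (endo g) (𝐋 ^ p) x = 0 := by
  have hpoly : (𝐋 ^ p : F[X]) = X ^ p - 1 := by rw [sub_pow_char]; simp [sgn]
  rw [hpoly, map_sub, map_pow, aeval_X, map_one, endo, ← Matrix.toLin'_pow, ← SubmonoidClass.coe_pow]
  refine ⟨fun h x _ => ?_, fun h => Subtype.ext (Matrix.toLin'.injective (LinearMap.ext fun x => ?_))⟩
  · rw [h, Submonoid.coe_one, Matrix.toLin'_one]; simp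
  · have := h x Submodule.mem_top
    rw [LinearMap.sub_apply, sub_eq_zero] at this
    rw [this, Submonoid.coe_one, Matrix.toLin'_one]; rfl

theorem card_classes [Fact p.Prime] [CharP F p] (h2 : (2 : F) ≠ 0) :
    Nat.card {C : ConjClasses (Spm F m) // ∃ g : (Spm F m), ConjClasses.mk g = C ∧ g ^ p = 1} =
      Nat.card {M : Multiset (Key F) // IsLabel p m M} := by
  have hdec : ∀ C : {C : ConjClasses (Spm F m) // ∃ g : (Spm F m), ConjClasses.mk g = C ∧ g ^ p = 1}, ∃ L : List (Key F),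
      Dec (sympBilin m F) (endo (Quotient.out C.1)) L ⊤ ∧ IsLabel p m (L : Multiset (Key F)) := by
    rintro ⟨C, g, rfl, hg⟩
    set g' : (Spm F m) := Quotient.out (ConjClasses.mk g) with hg'
    have hc : IsConj g' g := ConjClasses.mk_eq_mk_iff_isConj.1 (Quotient.out_eq _)
    obtain ⟨c, hc⟩ := isConj_iff.1 hc.symm
    have hg1 : g' ^ p = 1 := by rw [← hc, conj_pow, hg, mul_one, mul_inv_cancel]
    obtain ⟨L, hL, hn⟩ := exists_dec (isom_toLin g') (sympBilin_isAlt m F) h2 _ ⊤ (piece_top _) le_rfl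
    refine ⟨L, hL, fun k hk => ukey_of_dec (isom_toLin g') (sympBilin_isAlt m F) h2 hL
      ((pow_eq_one_iff_kills g').1 hg1) k (Multiset.mem_coe.1 hk), ?_, count_le_one_of_normal hn⟩
    rw [Multiset.map_coe, Multiset.sum_coe, ← hL.finrank (isom_toLin g') (sympBilin_isAlt m F) h2, finrank_top,
      finrank_space]
  choose L hL hlab using hdec
  refine Nat.card_congr (Equiv.ofBijective (fun C => ⟨(L C : Multiset (Key F)), hlab C⟩) ⟨fun C C' h => ?_, fun M => ?_⟩)
  · apply Subtype.ext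
    rw [← Quotient.out_eq C.1, ← Quotient.out_eq C'.1]
    exact Quotient.sound (isConj_of_dec h2 _ _ (hL C) (hL C') (Multiset.coe_eq_coe.1 (congrArg Subtype.val h)))
  · obtain ⟨M, hU, hsize, hns⟩ := M
    induction M using Quotient.inductionOn with | h LM => ?_
    obtain ⟨A, hA⟩ := model (p := p) h2 LM m (fun k hk => hU k (Multiset.mem_coe.2 hk)) (by simpa using hsize)
    have hAp : A ^ p = 1 := (pow_eq_one_iff_kills A).2 (kills_of_dec hA fun k hk => hU k (Multiset.mem_coe.2 hk))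
    refine ⟨⟨ConjClasses.mk A, A, rfl, hAp⟩, Subtype.ext (Multiset.coe_eq_coe.2 ?_)⟩
    set g' : (Spm F m) := Quotient.out (ConjClasses.mk A) with hg'
    obtain ⟨c, hc⟩ := isConj_iff.1 (ConjClasses.mk_eq_mk_iff_isConj.1 (Quotient.out_eq (ConjClasses.mk A))).symm
    have hcomm : ∀ x, endo g' (endo c x) = endo c (endo A x) := fun x => by
      have e1 : g' * c = c * A := by rw [hg', ← hc, inv_mul_cancel_right]
      have e2 := congrArg (fun g : (Spm F m) => endo g x) e1
      simpa [endo, Matrix.toLin'_mul] using e2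
    have hsurj : Function.Surjective (endo c) := fun x => ⟨endo c⁻¹ x, by
      rw [endo, endo, ← LinearMap.comp_apply, ← Matrix.toLin'_mul, ← Submonoid.coe_mul, mul_inv_cancel,
        Submonoid.coe_one, Matrix.toLin'_one]
      rfl⟩
    have hA' := dec_image (B' := sympBilin m F) (a' := endo g') (endo c) (isom_toLin c).isom hcomm hA
    rw [Submodule.map_top, LinearMap.range_eq_top.2 hsurj] at hA'
    exact perm_of_dec (p := p) (isom_toLin g') (sympBilin_isAlt m F) h2 (hL ⟨ConjClasses.mk A, A, rfl, hAp⟩) hA'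
      (fun k hk => (hlab _).1 k (Multiset.mem_coe.2 hk)) (fun k hk => hU k (Multiset.mem_coe.2 hk)) (hlab _).2.2 hns

theorem main [Fact p.Prime] [CharP F p] (hp : p ≠ 2) :
    Nat.card {C : ConjClasses (Spm F m) // ∃ g : (Spm F m), ConjClasses.mk g = C ∧ orderOf g = p} =
      (∑ μ ∈ Finset.univ.filter (fun μ : Nat.Partition (2 * m) =>
        (∀ a ∈ μ.parts, a ≤ p) ∧ ∀ j : ℕ, Odd j → Even (μ.parts.count j)),
        2 ^ ((μ.parts.toFinset.filter (fun j : ℕ => Even j)).card)) - 1 := by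
  have h2 : (2 : F) ≠ 0 := by
    intro h
    have : p ∣ 2 := (CharP.cast_eq_zero_iff F p 2).1 (by exact_mod_cast h)
    exact hp ((Nat.prime_dvd_prime_iff_eq (Fact.out : p.Prime) Nat.prime_two).1 this)
  rw [← card_signed, ← card_labels (F := F), ← card_classes h2]
  set S : Set (ConjClasses (Spm F m)) := {C | ∃ g : (Spm F m), ConjClasses.mk g = C ∧ g ^ p = 1}
  have hset : {C : ConjClasses (Spm F m) | ∃ g : (Spm F m), ConjClasses.mk g = C ∧ orderOf g = p} = S \ {ConjClasses.mk 1} := by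
    ext C
    simp only [Set.mem_setOf_eq, S, Set.mem_sdiff, Set.mem_singleton_iff]
    constructor
    · rintro ⟨g, rfl, hg⟩
      refine ⟨⟨g, rfl, hg ▸ pow_orderOf_eq_one g⟩, fun h => ?_⟩
      obtain ⟨c, hc⟩ := isConj_iff.1 (ConjClasses.mk_eq_mk_iff_isConj.1 h).symm
      rw [mul_one, mul_inv_cancel] at hc
      rw [← hc, orderOf_one] at hg
      exact (Fact.out : p.Prime).ne_one hg.symm
    · rintro ⟨⟨g, rfl, hg⟩, hne⟩
      exact ⟨g, rfl, orderOf_eq_prime hg fun h => hne (by rw [h])⟩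
  have h1 : ConjClasses.mk (1 : (Spm F m)) ∈ S := ⟨1, rfl, one_pow p⟩
  have := Set.ncard_sdiff_singleton_of_mem h1
  rw [← hset] at this
  rw [← Nat.card_coe_set_eq, ← Nat.card_coe_set_eq] at this
  exact this

end Cfsg.Lib.SympUnipClasses
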