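import Cfsg.Agent.Known.SympUnipClasses.Top
import Cfsg.Agent.Known.ClassNumberSp.Classes
import Cfsg.Agent.Known.ClassNumberSp.Regular
import Cfsg.Agent.Classical.Symp.Standard
import Mathlib

/-! # Every list of unipotent labels is realised in a symplectic group -/

set_option autoImplicit false
set_option linter.style.haveILetI false

open Polynomial Matrix Cfsg.Lib.Classical Cfsg.Lib.ClassNumberSp

namespace Cfsg.Lib.SympUnipClasses

universe u v w

variable {F : Type u} [Field F]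

local notation "𝐋" => (X - C (sgn F true) : F[X])

section Transport

variable {V : Type v} [AddCommGroup V] [Module F V] {V' : Type w} [AddCommGroup V'] [Module F V']
  {B : LinearMap.BilinForm F V} {B' : LinearMap.BilinForm F V'} {a : Module.End F V} {a' : Module.End F V'}
  (ι : V →ₗ[F] V') (hB : ∀ x y, B' (ι x) (ι y) = B x y) (ha : ∀ x, a' (ι x) = ι (a x))

include ha in
theorem aeval_intertwine (f : F[X]) : ∀ x, aeval a' f (ι x) = ι (aeval a f x) := by
  induction f using Polynomial.induction_on with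
  | C c => intro x; simp
  | add f g hf hg => intro x; rw [map_add, map_add, LinearMap.add_apply, LinearMap.add_apply, map_add, hf, hg]
  | monomial k c ih =>
    intro x
    rw [pow_succ, ← mul_assoc, aeval_mul_apply (C c * X ^ k), aeval_mul_apply (C c * X ^ k), aeval_X, aeval_X, ha, ih]

include ha in
theorem gen_image (v : V) : gen a' (ι v) = (gen a v).map ι := by
  ext x
  simp only [mem_gen, Submodule.mem_map, aeval_intertwine ι ha]
  constructor
  · rintro ⟨f, rfl⟩; exact ⟨_, ⟨f, rfl⟩, rfl⟩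
  · rintro ⟨_, ⟨f, rfl⟩, rfl⟩; exact ⟨f, rfl⟩

include hB ha in
theorem cyc_image {g : F[X]} {v : V} (h : Cyc B a g v) : Cyc B' a' g (ι v) :=
  ⟨h.monic, h.rev, by rw [aeval_intertwine ι ha, h.kills, map_zero], fun f hf => h.nondeg f fun k => by
    rw [← hB, ← aeval_intertwine ι ha]; exact hf k⟩

include hB ha in
theorem block_image {k : Key F} {U : Submodule F V} (h : IsBlock B a k U) : IsBlock B' a' k (U.map ι) := by
  rcases k with ⟨Q, e⟩ | ⟨b, e, s⟩ | ⟨b, e⟩
  · obtain ⟨hQ, he, v, hc, rfl⟩ := h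
    exact ⟨hQ, he, ι v, cyc_image ι hB ha hc, (gen_image ι ha v).symm⟩
  · obtain ⟨he, heven, v, hc, hs, rfl⟩ := h
    refine ⟨he, heven, ι v, cyc_image ι hB ha hc, ?_, (gen_image ι ha v).symm⟩
    rw [aeval_intertwine ι ha, hB]
    exact hs
  · obtain ⟨v, w, hp, rfl⟩ := h
    refine ⟨ι v, ι w, ⟨hp.sq, hp.odd, ?_, ?_, ?_⟩, ?_⟩
    · rw [aeval_intertwine ι ha, hp.kill_left, map_zero]
    · rw [aeval_intertwine ι ha, hp.kill_right, map_zero]
    · rw [aeval_intertwine ι ha, hB]; exact hp.top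
    · rw [pairGen, pairGen, Submodule.map_sup, gen_image ι ha, gen_image ι ha]

include hB ha in
theorem dec_image {L : List (Key F)} {W : Submodule F V} (h : Dec B a L W) : Dec B' a' L (W.map ι) := by
  induction h with
  | nil => rw [Submodule.map_bot]; exact Dec.nil
  | @cons k L U W hk _ ho ih =>
    rw [Submodule.map_sup]
    refine Dec.cons (block_image ι hB ha hk) ih ?_
    rintro _ ⟨x, hx, rfl⟩ _ ⟨y, hy, rfl⟩
    rw [hB]
    exact ho x hx y hy

end Transport

section General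

variable {V : Type v} [AddCommGroup V] [Module F V] {B : LinearMap.BilinForm F V} {a : Module.End F V}

theorem dec_append {L1 L2 : List (Key F)} {W1 W2 : Submodule F V} (h1 : Dec B a L1 W1) (h2 : Dec B a L2 W2)
    (ho : ∀ x ∈ W1, ∀ y ∈ W2, B x y = 0) : Dec B a (L1 ++ L2) (W1 ⊔ W2) := by
  induction h1 with
  | nil => rwa [List.nil_append, bot_sup_eq]
  | @cons k L U W hk _ hUW ih =>
    rw [List.cons_append, sup_assoc]
    refine Dec.cons hk (ih fun x hx => ho x (Submodule.mem_sup_right hx)) fun x hx y hy => ?_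
    obtain ⟨y1, hy1, y2, hy2, rfl⟩ := Submodule.mem_sup.1 hy
    rw [map_add, hUW x hx y1 hy1, ho x (Submodule.mem_sup_left hx) y2 hy2, add_zero]

theorem dec_single {k : Key F} {U : Submodule F V} (h : IsBlock B a k U) : Dec B a [k] U := by
  simpa using Dec.cons h Dec.nil fun x _ y hy => by rw [(Submodule.mem_bot F).1 hy, map_zero]

/-- A decomposition on an abstract space moves to the standard one. -/
theorem realise [FiniteDimensional F V] (hB : B.IsAlt) (hnd : ∀ x, (∀ y, B x y = 0) → x = 0)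
    (ha : ∀ x y, B (a x) (a y) = B x y) {m : ℕ} (hd : Module.finrank F V = 2 * m) {L : List (Key F)}
    (h : Dec B a L ⊤) :
    ∃ A : symplecticGroup (Fin m) F,
      Dec (sympBilin m F) (Matrix.toLin' (A : Matrix (Fin m ⊕ Fin m) (Fin m ⊕ Fin m) F)) L ⊤ := by
  obtain ⟨e, he⟩ := exists_isometry_sympBilin hB ⟨hnd, fun y hy => hnd y fun x => by
    rw [alt_neg hB, hy x, neg_zero]⟩ hd
  let T : Module.End F (Fin m ⊕ Fin m → F) := (e : V →ₗ[F] _) ∘ₗ a ∘ₗ (e.symm : _ →ₗ[F] V)
  have hT : ∀ x, T (e x) = e (a x) := fun x => by simp [T]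
  have hmem : LinearMap.toMatrix' T ∈ symplecticGroup (Fin m) F := by
    rw [mem_symplectic_iff_form]
    intro x y
    rw [← Matrix.toLin'_apply, ← Matrix.toLin'_apply, Matrix.toLin'_toMatrix']
    obtain ⟨r, rfl⟩ := e.surjective x
    obtain ⟨s, rfl⟩ := e.surjective y
    rw [hT, hT, he, he, ha]
  refine ⟨⟨_, hmem⟩, ?_⟩
  simp only [Matrix.toLin'_toMatrix']
  have := dec_image (B' := sympBilin m F) (a' := T) (e : V →ₗ[F] _) he hT h
  rwa [Submodule.map_top, LinearEquiv.range] at this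

end General

/-- The model of a pair of odd exponent. -/
theorem model_pair {p : ℕ} [Fact p.Prime] [CharP F p] [Finite F] (h2 : (2 : F) ≠ 0) {e : ℕ} (he : Odd e) :
    ∃ A : symplecticGroup (Fin e) F,
      Dec (sympBilin e F) (Matrix.toLin' (A : Matrix (Fin e ⊕ Fin e) (Fin e ⊕ Fin e) F)) [Key.pair true e] ⊤ := by
  classical
  haveI := Fintype.ofFinite F
  set g : F[X] := 𝐋 ^ e with hg
  have hmon : g.Monic := (monic_X_sub_C _).pow e
  let R := AdjoinRoot g
  haveI : Module.Finite F R := hmon.finite_adjoinRoot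
  let N := p ^ e
  have hN : 1 ≤ N := Nat.one_le_pow _ _ (Fact.out : p.Prime).pos
  have hdvd : g ∣ X ^ N - 1 := dvd_X_pow_card p e
  set r0 : R := AdjoinRoot.root g with hr0
  have hinv : r0 * r0 ^ (N - 1) = 1 := by rw [← pow_succ', Nat.sub_add_cancel hN]; exact root_pow hdvd
  have hnil : (r0 - 1) ^ e = 0 := by
    rw [hr0, ← AdjoinRoot.mk_X, ← map_one (AdjoinRoot.mk g), ← map_sub, ← map_pow, AdjoinRoot.mk_eq_zero]
    simp [hg, sgn]
  have hτ0 : aeval (r0 ^ (N - 1)) g = 0 := by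
    refine (congrArg (aeval (r0 ^ (N - 1))) hg).trans ?_
    rw [map_pow, map_sub, aeval_X, aeval_C, sgn, if_pos rfl, map_one,
      show r0 ^ (N - 1) - 1 = -(r0 ^ (N - 1)) * (r0 - 1) by linear_combination hinv, mul_pow, hnil, mul_zero]
  let τ : R →ₐ[F] R := AdjoinRoot.liftAlgHom g (Algebra.ofId F R) (r0 ^ (N - 1)) hτ0
  have hτr : τ r0 = r0 ^ (N - 1) := AdjoinRoot.liftAlgHom_root _ _ _ _
  have hco1 : ((lcoeff F (e - 1)).comp (AdjoinRoot.modByMonicHom hmon)) (AdjoinRoot.mk g (𝐋 ^ (e - 1))) = 1 := by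
    simp only [LinearMap.comp_apply, AdjoinRoot.modByMonicHom_mk, lcoeff_apply]
    rw [(modByMonic_eq_self_iff hmon).2]
    · have h1 : (𝐋 ^ (e - 1)).natDegree = e - 1 := by rw [natDegree_pow, natDegree_X_sub_C, mul_one]
      have h2 : (𝐋 ^ (e - 1)).Monic := (monic_X_sub_C _).pow _
      rw [Monic, leadingCoeff, h1] at h2
      exact h2
    · rw [hg, degree_pow, degree_pow, degree_X_sub_C, nsmul_one, nsmul_one]
      exact_mod_cast (by have := he.pos; omega : e - 1 < e)
  let co : R →ₗ[F] F := (lcoeff F (e - 1)).comp (AdjoinRoot.modByMonicHom hmon)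
  let Φ : LinearMap.BilinForm F (R × R) :=
    ((LinearMap.mul F R).compr₂ co).compl₁₂ (LinearMap.fst F R R) (τ.toLinearMap.comp (LinearMap.snd F R R))
  let B : LinearMap.BilinForm F (R × R) := Φ - Φ.flip
  have hBv : ∀ x y : R × R, B x y = co (x.1 * τ y.2) - co (y.1 * τ x.2) := fun x y => rfl
  have hA : B.IsAlt := fun x => by rw [hBv, sub_self]
  let T : Module.End F (R × R) := (LinearMap.mulLeft F r0).prodMap (LinearMap.mulLeft F r0)
  have hT : ∀ f (x : R × R), aeval T f x = (AdjoinRoot.mk g f * x.1, AdjoinRoot.mk g f * x.2) := by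
    intro f
    induction f using Polynomial.induction_on with
    | C c =>
      intro x
      rw [aeval_C, Module.algebraMap_end_apply, AdjoinRoot.mk_C]
      refine Prod.ext ?_ ?_ <;> simp [Algebra.smul_def, AdjoinRoot.algebraMap_eq, R]
    | add f k hf hk => intro x; rw [map_add, LinearMap.add_apply, hf, hk, map_add]; simp [add_mul]
    | monomial k c ih =>
      intro x
      rw [pow_succ, ← mul_assoc, aeval_mul_apply (C c * X ^ k), aeval_X, ih, map_mul (AdjoinRoot.mk g) (C c * X ^ k),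
        AdjoinRoot.mk_X]
      simp [T, hr0, mul_assoc]
  have hiso : Isom B N T := by
    refine ⟨fun x y => ?_, LinearMap.ext fun x => ?_, hN⟩
    · show B (r0 * x.1, r0 * x.2) (r0 * y.1, r0 * y.2) = B x y
      simp only [hBv, map_mul τ, hτr]
      rw [mul_mul_mul_comm r0 x.1, mul_mul_mul_comm r0 y.1, hinv, one_mul, one_mul]
    · rw [show T ^ N = aeval T (X ^ N : F[X]) by simp, hT, map_pow, AdjoinRoot.mk_X, root_pow hdvd, one_mul, one_mul]
      rfl
  have hp : Pair B T (sgn F true) e (1, 0) (0, 1) := by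
    refine ⟨sgn_sq true, he, ?_, ?_, ?_⟩
    · rw [hT, ← hg, AdjoinRoot.mk_self]; simp
    · rw [hT, ← hg, AdjoinRoot.mk_self]; simp
    · rw [hT, hBv]
      simp only [mul_zero, map_zero, mul_one, map_one, sub_zero]
      exact hco1
  have htop : pairGen T (1, 0) (0, 1) = ⊤ := by
    rw [eq_top_iff]
    rintro ⟨x, y⟩ -
    obtain ⟨f, rfl⟩ := AdjoinRoot.mk_surjective x
    obtain ⟨k, rfl⟩ := AdjoinRoot.mk_surjective y
    exact mem_pairGen.2 ⟨f, k, by rw [hT, hT]; simp⟩
  refine realise hA (fun x hx => hp.gen_nondeg hiso hA h2 (htop ▸ Submodule.mem_top) fun y _ => hx y) hiso.isom ?_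
    (dec_single (k := Key.pair true e) ⟨_, _, hp, htop.symm⟩)
  rw [Module.finrank_prod, (PowerBasis.finrank (AdjoinRoot.powerBasis' hmon)), AdjoinRoot.powerBasis'_dim, hg,
    natDegree_pow, natDegree_X_sub_C, mul_one, two_mul]

/-- The model of a single block of even exponent. -/
theorem model_one {p : ℕ} [Fact p.Prime] [CharP F p] [Fintype F] (h2 : (2 : F) ≠ 0) {m : ℕ} (hm : 1 ≤ m) (s : Bool) :
    ∃ A : symplecticGroup (Fin m) F,
      Dec (sympBilin m F) (Matrix.toLin' (A : Matrix (Fin m ⊕ Fin m) (Fin m ⊕ Fin m) F)) [Key.one true (2 * m) s] ⊤ := by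
  obtain ⟨z, hz⟩ := FiniteField.exists_nonsquare (F := F) fun h => h2 (by
    haveI := ringChar.charP F
    have := CharP.cast_eq_zero F (ringChar F)
    rw [h] at this
    exact_mod_cast this)
  obtain ⟨c, hc, hcs⟩ : ∃ c : F, c ≠ 0 ∧ (IsSquare c ↔ s = true) := by
    cases s
    · exact ⟨z, fun h => hz (h ▸ IsSquare.zero), iff_of_false hz Bool.false_ne_true⟩
    · exact ⟨1, one_ne_zero, iff_of_true IsSquare.one rfl⟩
  obtain ⟨A, hA, hAs⟩ := exists_regular_unip p h2 hm (c * 2⁻¹) (mul_ne_zero hc (inv_ne_zero h2))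
  rw [inv_mul_cancel_right₀ h2] at hAs
  obtain ⟨v, hv, ht, hv0⟩ := regular_block hm A hA
  have hsq := hA.sqType_iff (isom_toLin A) (sympBilin_isAlt m F) nondeg_symp (even_two_mul m) (by omega)
    (finrank_space m) hv0
  exact ⟨A, dec_single (k := Key.one true (2 * m) s)
    ⟨by omega, even_two_mul m, v, hv, hsq.symm.trans (hAs.trans hcs), ht.symm⟩⟩

theorem size_even {p : ℕ} {k : Key F} (hk : UKey p k) : ∃ m, k.size = 2 * m := by
  rcases k with ⟨Q, e⟩ | ⟨b, e, s⟩ | ⟨b, e⟩
  · exact hk.elim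
  · obtain ⟨j, hj⟩ := hk.2.2.1
    exact ⟨j, by show e = _; omega⟩
  · exact ⟨e, rfl⟩

/-- Every list of labels has a model. -/
theorem model {p : ℕ} [Fact p.Prime] [CharP F p] [Fintype F] (h2 : (2 : F) ≠ 0) :
    ∀ (L : List (Key F)) (m : ℕ), (∀ k ∈ L, UKey p k) → (L.map Key.size).sum = 2 * m →
      ∃ A : symplecticGroup (Fin m) F,
        Dec (sympBilin m F) (Matrix.toLin' (A : Matrix (Fin m ⊕ Fin m) (Fin m ⊕ Fin m) F)) L ⊤ := by
  intro L
  induction L with
  | nil =>
    intro m _ h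
    obtain rfl : m = 0 := by simp at h; omega
    refine ⟨1, ?_⟩
    rw [show (⊤ : Submodule F (Fin 0 ⊕ Fin 0 → F)) = ⊥ from Subsingleton.elim _ _]
    exact Dec.nil
  | cons k L ih =>
    intro m hU h
    have hk := hU k List.mem_cons_self
    obtain ⟨m1, hm1⟩ := size_even hk
    rw [List.map_cons, List.sum_cons, hm1] at h
    obtain ⟨m2, rfl⟩ := Nat.exists_eq_add_of_le (show m1 ≤ m by omega)
    obtain ⟨A2, hA2⟩ := ih m2 (fun x hx => hU x (List.mem_cons_of_mem _ hx)) (by omega)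
    obtain ⟨A1, hA1⟩ : ∃ A1 : symplecticGroup (Fin m1) F,
        Dec (sympBilin m1 F) (Matrix.toLin' (A1 : Matrix (Fin m1 ⊕ Fin m1) (Fin m1 ⊕ Fin m1) F)) [k] ⊤ := by
      rcases k with ⟨Q, e⟩ | ⟨b, e, s⟩ | ⟨b, e⟩
      · exact hk.elim
      · obtain ⟨rfl, he, -, -⟩ := hk
        change e = 2 * m1 at hm1
        subst hm1
        exact model_one (p := p) h2 (by omega) s
      · obtain ⟨rfl, he, -⟩ := hk
        change 2 * e = 2 * m1 at hm1
        obtain rfl : m1 = e := by omega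
        exact model_pair (p := p) h2 he
    let B1 := sympBilin m1 F
    let B2 := sympBilin m2 F
    let f1 := LinearMap.fst F (Fin m1 ⊕ Fin m1 → F) (Fin m2 ⊕ Fin m2 → F)
    let f2 := LinearMap.snd F (Fin m1 ⊕ Fin m1 → F) (Fin m2 ⊕ Fin m2 → F)
    let T1 := Matrix.toLin' (A1 : Matrix (Fin m1 ⊕ Fin m1) (Fin m1 ⊕ Fin m1) F)
    let T2 := Matrix.toLin' (A2 : Matrix (Fin m2 ⊕ Fin m2) (Fin m2 ⊕ Fin m2) F)
    let B := B1.compl₁₂ f1 f1 + B2.compl₁₂ f2 f2
    have hBv : ∀ x y, B x y = B1 x.1 y.1 + B2 x.2 y.2 := fun x y => rfl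
    have e1 := dec_image (B' := B) (a' := T1.prodMap T2) (LinearMap.inl F _ _)
      (fun x y => by rw [hBv]; simp [B1, B2]) (fun x => by simp [T1, T2]) hA1
    have e2 := dec_image (B' := B) (a' := T1.prodMap T2) (LinearMap.inr F _ _)
      (fun x y => by rw [hBv]; simp [B1, B2]) (fun x => by simp [T1, T2]) hA2
    have e3 := dec_append e1 e2 (by
      rintro _ ⟨x, -, rfl⟩ _ ⟨y, -, rfl⟩
      rw [hBv]; simp)
    rw [Submodule.map_top, Submodule.map_top, LinearMap.sup_range_inl_inr] at e3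
    refine realise (fun x => ?_) (fun x hx => ?_) (fun x y => ?_) ?_ e3
    · rw [hBv, sympBilin_isAlt m1 F x.1, sympBilin_isAlt m2 F x.2, add_zero]
    · refine Prod.ext (nondeg_symp _ fun y => ?_) (nondeg_symp _ fun y => ?_)
      · simpa [hBv, B1, B2] using hx (y, 0)
      · simpa [hBv, B1, B2] using hx (0, y)
    · simp only [LinearMap.prodMap_apply, hBv]
      rw [show B1 (T1 x.1) (T1 y.1) = B1 x.1 y.1 from (isom_toLin A1).isom _ _,
        show B2 (T2 x.2) (T2 y.2) = B2 x.2 y.2 from (isom_toLin A2).isom _ _]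
    · rw [Module.finrank_prod, finrank_space, finrank_space]
      omega

end Cfsg.Lib.SympUnipClasses
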