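import Cfsg.Agent.Known.ClassNumberSp.Count
import Mathlib

/-!
# The invariants of a decomposed unipotent isometry

For each exponent `e` the form `(x, y) ↦ B ((a - 1) ^ (e - 1) x) y` on the vectors killed by
`(a - 1) ^ e` has a Gram matrix with nonzero determinant on the tops of the blocks of exponent `e`.
Its size and the square class of its determinant recover the labels.
-/

set_option autoImplicit false
set_option linter.style.haveILetI false

open Polynomial Cfsg.Lib.ClassNumberSp
open scoped Classical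

namespace Cfsg.Lib.SympUnipClasses

universe u v

variable {F : Type u} [Field F] {V : Type v} [AddCommGroup V] [Module F V]

local notation "𝐋" => (X - C (sgn F true) : F[X])

/-- The labels of the blocks of a unipotent isometry with exponents at most `p`. -/
def UKey (p : ℕ) : Key F → Prop
  | .cyc _ _ => False
  | .one b e _ => b = true ∧ 1 ≤ e ∧ Even e ∧ e ≤ p
  | .pair b e => b = true ∧ Odd e ∧ e ≤ p

/-- The bottom form. -/
noncomputable def H (B : LinearMap.BilinForm F V) (a : Module.End F V) (e : ℕ) (x y : V) : F :=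
  B (aeval a (𝐋 ^ (e - 1)) x) y

/-- The vectors of a subspace killed by `(a - 1) ^ e`. -/
def Killed (a : Module.End F V) (W : Submodule F V) (e : ℕ) (x : V) : Prop :=
  x ∈ W ∧ aeval a (𝐋 ^ e) x = 0

variable {B : LinearMap.BilinForm F V} {N : ℕ} {a : Module.End F V}

theorem star_apply (ha : Isom B N a) (k : ℕ) (x : V) :
    aeval a (star N (𝐋 ^ k)) x =
      (-1 : F) ^ k • ((a ^ (N - 1)) ^ k : Module.End F V) (aeval a (𝐋 ^ k) x) := by
  have e1 : aeval (a ^ (N - 1)) 𝐋 = (-1 : F) • (a ^ (N - 1) * aeval a 𝐋) := by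
    rw [map_sub, map_sub, aeval_X, aeval_X, aeval_C, aeval_C, mul_sub, ← pow_succ, Nat.sub_add_cancel ha.pos, ha.pow]
    simp only [sgn, if_true, map_one, mul_one]
    module
  have hc : Commute (a ^ (N - 1)) (aeval a 𝐋) := by
    rw [show a ^ (N - 1) = aeval a (X ^ (N - 1) : F[X]) by simp]
    exact (Commute.all _ _).map (aeval a)
  rw [aeval_star, map_pow, e1, _root_.smul_pow, hc.mul_pow, map_pow]
  rfl

theorem pow_fix {h : V} {T : Module.End F V} (hT : T h = h) (k : ℕ) : (T ^ k) h = h := by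
  induction k with
  | zero => rfl
  | succ k ih => rw [pow_succ, Module.End.mul_apply, hT, ih]

theorem H_comm (ha : Isom B N a) (hB : B.IsAlt) {e : ℕ} (he : 1 ≤ e) {x y : V}
    (hx : aeval a (𝐋 ^ e) x = 0) : H B a e y x = (-1 : F) ^ e * H B a e x y := by
  have hah : a (aeval a (𝐋 ^ (e - 1)) x) = aeval a (𝐋 ^ (e - 1)) x := by
    have h := top_smul he hx (X : F[X])
    rw [aeval_mul_apply, aeval_X, eval_X, sgn, if_pos rfl, one_smul] at h
    exact h
  obtain ⟨k, rfl⟩ := Nat.exists_eq_add_of_le' he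
  rw [H, H, ha.adjoint, star_apply ha, map_smul, pow_fix (pow_fix hah _), alt_neg hB y, smul_eq_mul, pow_succ]
  simp only [Nat.add_sub_cancel]
  ring

theorem orth_image (ha : Isom B N a) (hB : B.IsAlt) {z : V} (hz : aeval a 𝐋 z = 0) (y : V) :
    B z (aeval a 𝐋 y) = 0 := by
  rw [alt_neg hB, ha.adjoint]
  have h := star_apply ha 1 z
  rw [pow_one, pow_one, hz, map_zero, smul_zero] at h
  rw [h, map_zero, neg_zero]

/-- The Gram matrix on the tops, with its size and square class. -/
def TopData (B : LinearMap.BilinForm F V) (a : Module.End F V) (W : Submodule F V) (e d n : ℕ) : Prop :=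
  ∃ (ι : Type) (_ : Fintype ι) (_ : DecidableEq ι) (v : ι → V), Fintype.card ι = d ∧
    (∀ i, Killed a W e (v i)) ∧
    (Matrix.of fun i j => H B a e (v i) (v j)).det ≠ 0 ∧
    (IsSquare (Matrix.of fun i j => H B a e (v i) (v j)).det ↔ Even n) ∧
    ∀ x, Killed a W e x → ∃ c : ι → F, ∀ y, Killed a W e y → H B a e x y = ∑ i, c i * H B a e (v i) y

theorem topData_null {W : Submodule F V} {e : ℕ}
    (h : ∀ x y, Killed a W e x → Killed a W e y → H B a e x y = 0) : TopData B a W e 0 0 := by
  refine ⟨Fin 0, inferInstance, inferInstance, Fin.elim0, by simp, fun i => i.elim0, ?_, ?_,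
    fun x hx => ⟨fun _ => 0, fun y hy => by rw [h x y hx hy]; simp⟩⟩
  · rw [Matrix.det_isEmpty]; exact one_ne_zero
  · rw [Matrix.det_isEmpty]; exact iff_of_true IsSquare.one ⟨0, rfl⟩

theorem isSquare_mul_iff [Finite F] {s t : F} (hs : s ≠ 0) (ht : t ≠ 0) :
    IsSquare (s * t) ↔ (IsSquare s ↔ IsSquare t) := by
  classical
  haveI := Fintype.ofFinite F
  rw [← quadraticChar_one_iff_isSquare (mul_ne_zero hs ht), map_mul, ← quadraticChar_one_iff_isSquare hs,
    ← quadraticChar_one_iff_isSquare ht]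
  rcases quadraticChar_dichotomy hs with h1 | h1 <;> rcases quadraticChar_dichotomy ht with h2 | h2 <;>
    simp [h1, h2]

theorem TopData.sup [Finite F] (hB : B.IsAlt) {U W : Submodule F V} {e d d' n n' : ℕ}
    (hU : ∀ f : F[X], ∀ x ∈ U, aeval a f x ∈ U) (hW : ∀ f : F[X], ∀ x ∈ W, aeval a f x ∈ W)
    (hd : Disjoint U W) (ho : ∀ x ∈ U, ∀ y ∈ W, B x y = 0)
    (h1 : TopData B a U e d n) (h2 : TopData B a W e d' n') : TopData B a (U ⊔ W) e (d + d') (n + n') := by
  classical
  obtain ⟨ι, _, _, v, hι, hv, hdet, hsq, hspan⟩ := h1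
  obtain ⟨κ, _, _, w, hκ, hw, hdet', hsq', hspan'⟩ := h2
  have o1 : ∀ x ∈ U, ∀ y ∈ W, H B a e x y = 0 := fun x hx y hy => ho _ (hU _ x hx) y hy
  have o2 : ∀ x ∈ W, ∀ y ∈ U, H B a e x y = 0 := fun x hx y hy => by
    rw [H, alt_neg hB, ho y hy _ (hW _ x hx), neg_zero]
  have split : ∀ x, Killed a (U ⊔ W) e x → ∃ y z, Killed a U e y ∧ Killed a W e z ∧ x = y + z := by
    rintro x ⟨hx, hx0⟩
    obtain ⟨y, hy, z, hz, rfl⟩ := Submodule.mem_sup.1 hx
    rw [map_add, add_eq_zero_iff_eq_neg] at hx0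
    have h0 := Submodule.disjoint_def.1 hd _ (hU _ y hy) (hx0 ▸ W.neg_mem (hW _ z hz))
    rw [h0, zero_eq_neg] at hx0
    exact ⟨y, z, ⟨hy, h0⟩, ⟨hz, hx0⟩, rfl⟩
  have hG : (Matrix.of fun i j => H B a e (Sum.elim v w i) (Sum.elim v w j)) =
      Matrix.fromBlocks (Matrix.of fun i j => H B a e (v i) (v j)) 0 0 (Matrix.of fun i j => H B a e (w i) (w j)) := by
    ext (i | i) (j | j)
    · rfl
    · exact o1 _ (hv i).1 _ (hw j).1
    · exact o2 _ (hw i).1 _ (hv j).1
    · rfl
  refine ⟨ι ⊕ κ, inferInstance, inferInstance, Sum.elim v w, by rw [Fintype.card_sum, hι, hκ], ?_, ?_, ?_, ?_⟩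
  · rintro (i | i)
    · exact ⟨Submodule.mem_sup_left (hv i).1, (hv i).2⟩
    · exact ⟨Submodule.mem_sup_right (hw i).1, (hw i).2⟩
  · rw [hG, Matrix.det_fromBlocks_zero₂₁]
    exact mul_ne_zero hdet hdet'
  · rw [hG, Matrix.det_fromBlocks_zero₂₁, isSquare_mul_iff hdet hdet', hsq, hsq', Nat.even_add]
  · intro x hx
    obtain ⟨x1, x2, hx1, hx2, rfl⟩ := split x hx
    obtain ⟨c, hc⟩ := hspan x1 hx1
    obtain ⟨c', hc'⟩ := hspan' x2 hx2
    refine ⟨Sum.elim c c', fun y hy => ?_⟩
    obtain ⟨y1, y2, hy1, hy2, rfl⟩ := split y hy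
    have ev : ∀ u, Killed a U e u → H B a e u (y1 + y2) = H B a e u y1 := fun u hu => by
      rw [H, map_add, ← H, ← H, o1 u hu.1 y2 hy2.1, add_zero]
    have ew : ∀ u, Killed a W e u → H B a e u (y1 + y2) = H B a e u y2 := fun u hu => by
      rw [H, map_add, ← H, ← H, o2 u hu.1 y1 hy1.1, zero_add]
    rw [Fintype.sum_sum_type]
    simp only [Sum.elim_inl, Sum.elim_inr, ev _ (hv _), ew _ (hw _)]
    rw [← hc y1 hy1, ← hc' y2 hy2, ← ev x1 hx1, ← ew x2 hx2]
    simp only [H, map_add, LinearMap.add_apply]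
    ring

/-- A block of another exponent has no tops. -/
theorem null_of_ne (ha : Isom B N a) (hB : B.IsAlt) {U : Submodule F V} {e f : ℕ} (he : 1 ≤ e) (hne : f ≠ e)
    (hkill : ∀ x ∈ U, aeval a (𝐋 ^ f) x = 0)
    (hdiv : e < f → ∀ x, Killed a U e x → ∃ x' ∈ U, aeval a (𝐋 ^ (f - e)) x' = x) :
    ∀ x y, Killed a U e x → Killed a U e y → H B a e x y = 0 := by
  intro x y hx hy
  rcases lt_or_gt_of_ne hne with hlt | hgt
  · rw [H, show 𝐋 ^ (e - 1) = 𝐋 ^ (e - 1 - f) * 𝐋 ^ f by rw [← pow_add]; congr 1; omega, aeval_mul_apply,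
      hkill x hx.1, map_zero, map_zero, LinearMap.zero_apply]
  · obtain ⟨x', hx', rfl⟩ := hdiv hgt x hx
    obtain ⟨y', -, rfl⟩ := hdiv hgt y hy
    rw [H, ← aeval_mul_apply, ← pow_add, show f - e = (f - e - 1) + 1 by omega, pow_succ' 𝐋 (f - e - 1),
      aeval_mul_apply 𝐋]
    refine orth_image ha hB ?_ _
    rw [← aeval_mul_apply, ← pow_succ', show e - 1 + (f - e - 1 + 1) + 1 = f by omega]
    exact hkill x' hx'

/-- The number of tops a label contributes. -/
noncomputable def Key.dimAt (e : ℕ) : Key F → ℕ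
  | .cyc _ _ => 0
  | .one _ f _ => if f = e then 1 else 0
  | .pair _ f => if f = e then 2 else 0

/-- The number of nonsquares a label contributes. -/
noncomputable def Key.nsAt (e : ℕ) : Key F → ℕ
  | .cyc _ _ => 0
  | .one _ f s => if f = e ∧ s = false then 1 else 0
  | .pair _ _ => 0

theorem topData_block (ha : Isom B N a) (hB : B.IsAlt) (h2 : (2 : F) ≠ 0) {p e : ℕ} (he : 1 ≤ e)
    {k : Key F} (hk : UKey p k) {U : Submodule F V} (h : IsBlock B a k U) :
    TopData B a U e (Key.dimAt e k) (Key.nsAt e k) := by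
  classical
  have hL0 : ∀ i, (𝐋 ^ i) ≠ 0 := fun i => pow_ne_zero _ (X_sub_C_ne_zero _)
  rcases k with ⟨Q, f⟩ | ⟨b, f, s⟩ | ⟨b, f⟩
  · exact hk.elim
  · obtain ⟨rfl, -⟩ := hk
    obtain ⟨hf, -, v, hc, hs, rfl⟩ := h
    have hkill : ∀ x ∈ gen a v, aeval a (𝐋 ^ f) x = 0 := fun x hx => by
      obtain ⟨g, rfl⟩ := mem_gen.1 hx
      rw [← aeval_mul_apply, mul_comm, aeval_mul_apply, hc.kills, map_zero]
    by_cases hfe : f = e
    · subst hfe
      refine ⟨Fin 1, inferInstance, inferInstance, fun _ => v, by simp [Key.dimAt], fun _ =>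
        ⟨self_mem_gen a v, hc.kills⟩, ?_, ?_, fun x hx => ?_⟩
      · rw [Matrix.det_fin_one]
        intro h0
        have : 𝐋 ^ f ∣ 𝐋 ^ (f - 1) := hc.nondeg _ fun g => by
          rw [Matrix.of_apply, H] at h0
          rw [top_smul hf hc.kills, map_smul, LinearMap.smul_apply, h0, smul_zero]
        have := (pow_dvd_pow_iff (X_sub_C_ne_zero _) (irreducible_X_sub_C _).not_isUnit).1 this
        omega
      · rw [Matrix.det_fin_one, Matrix.of_apply, H, hs]
        cases s <;> simp [Key.nsAt]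
      · obtain ⟨g, rfl⟩ := mem_gen.1 hx.1
        refine ⟨fun _ => g.eval (sgn F true), fun y _ => ?_⟩
        rw [Fin.sum_univ_one, H, ← aeval_mul_apply, mul_comm, top_smul hf hc.kills, map_smul, LinearMap.smul_apply]
        rfl
    · have h0 : TopData B a (gen a v) e 0 0 := by
        refine topData_null (null_of_ne ha hB he hfe hkill fun hlt x hx => ?_)
        obtain ⟨g, rfl⟩ := mem_gen.1 hx.1
        have hx0 := hx.2
        rw [← aeval_mul_apply] at hx0
        have hd := hc.dvd_of_kills hx0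
        rw [show f = e + (f - e) by omega, pow_add] at hd
        obtain ⟨g', rfl⟩ := (mul_dvd_mul_iff_left (hL0 e)).1 hd
        exact ⟨_, mem_gen.2 ⟨g', rfl⟩, (aeval_mul_apply _ _ _).symm⟩
      simpa [Key.dimAt, Key.nsAt, hfe] using h0
  · obtain ⟨rfl, hodd, -⟩ := hk
    obtain ⟨v, w, hp, rfl⟩ := h
    have hkill : ∀ x ∈ pairGen a v w, aeval a (𝐋 ^ f) x = 0 := fun x hx => by
      obtain ⟨g, k, rfl⟩ := mem_pairGen.1 hx
      rw [map_add, ← aeval_mul_apply, ← aeval_mul_apply, mul_comm, aeval_mul_apply, hp.kill_left, map_zero, mul_comm,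
        aeval_mul_apply, hp.kill_right, map_zero, add_zero]
    have hv : v ∈ pairGen a v w := Submodule.mem_sup_left (self_mem_gen a v)
    have hw : w ∈ pairGen a v w := Submodule.mem_sup_right (self_mem_gen a w)
    by_cases hfe : f = e
    · subst hfe
      have e00 := top_self ha hB h2 hp.sq hodd hp.kill_left
      have e11 := top_self ha hB h2 hp.sq hodd hp.kill_right
      have e10 := hp.top_right ha hB h2
      have e01 := hp.top
      refine ⟨Fin 2, inferInstance, inferInstance, ![v, w], by simp [Key.dimAt], fun i => ?_, ?_, ?_, fun x hx => ?_⟩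
      · fin_cases i
        · exact ⟨hv, hp.kill_left⟩
        · exact ⟨hw, hp.kill_right⟩
      · simp only [Matrix.det_fin_two, Matrix.of_apply, Matrix.cons_val_zero, Matrix.cons_val_one, H, e00, e11, e10, e01]
        norm_num
      · simp only [Matrix.det_fin_two, Matrix.of_apply, Matrix.cons_val_zero, Matrix.cons_val_one, H, e00, e11, e10, e01]
        norm_num [Key.nsAt]
      · obtain ⟨g, k, rfl⟩ := mem_pairGen.1 hx.1
        refine ⟨![g.eval (sgn F true), k.eval (sgn F true)], fun y _ => ?_⟩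
        rw [Fin.sum_univ_two]
        simp only [H, Matrix.cons_val_zero, Matrix.cons_val_one]
        rw [map_add, ← aeval_mul_apply, ← aeval_mul_apply, mul_comm _ g, mul_comm _ k, top_smul hp.pos hp.kill_left,
          top_smul hp.pos hp.kill_right, map_add, LinearMap.add_apply, map_smul, map_smul, LinearMap.smul_apply,
          LinearMap.smul_apply, smul_eq_mul, smul_eq_mul]
    · have h0 : TopData B a (pairGen a v w) e 0 0 := by
        refine topData_null (null_of_ne ha hB he hfe hkill fun hlt x hx => ?_)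
        obtain ⟨g, k, rfl⟩ := mem_pairGen.1 hx.1
        have hx0 := hx.2
        rw [map_add, ← aeval_mul_apply, ← aeval_mul_apply] at hx0
        obtain ⟨hg, hk⟩ := hp.dvd_of_orth ha hB h2 (𝐋 ^ e * g) (𝐋 ^ e * k) fun y _ => by
          rw [hx0, map_zero, LinearMap.zero_apply]
        rw [show f = e + (f - e) by omega, pow_add] at hg hk
        obtain ⟨g', rfl⟩ := (mul_dvd_mul_iff_left (hL0 e)).1 hg
        obtain ⟨k', rfl⟩ := (mul_dvd_mul_iff_left (hL0 e)).1 hk
        exact ⟨_, mem_pairGen.2 ⟨g', k', rfl⟩, by rw [map_add, aeval_mul_apply, aeval_mul_apply]⟩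
      simpa [Key.dimAt, Key.nsAt, hfe] using h0

theorem topData_dec [Finite F] (ha : Isom B N a) (hB : B.IsAlt) (h2 : (2 : F) ≠ 0) {p e : ℕ} (he : 1 ≤ e) :
    ∀ {L : List (Key F)} {W : Submodule F V}, Dec B a L W → (∀ k ∈ L, UKey p k) →
      TopData B a W e (L.map (Key.dimAt e)).sum (L.map (Key.nsAt e)).sum := by
  intro L W h
  induction h with
  | nil =>
    intro _
    refine topData_null fun x y hx _ => ?_
    rw [(Submodule.mem_bot F).1 hx.1, H, map_zero, map_zero, LinearMap.zero_apply]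
  | @cons k L U W hk hd ho ih =>
    intro hU
    rw [List.map_cons, List.map_cons, List.sum_cons, List.sum_cons]
    exact (topData_block ha hB h2 he (hU k List.mem_cons_self) hk).sup hB (fun f x hx => hk.invariant f hx)
      hd.invariant (disjoint_of_orth ha hB h2 hk ho) ho (ih fun k' hk' => hU k' (List.mem_cons_of_mem _ hk'))

theorem TopData.unique (ha : Isom B N a) (hB : B.IsAlt) {W : Submodule F V} {e d d' n n' : ℕ} (he : 1 ≤ e)
    (h1 : TopData B a W e d n) (h2 : TopData B a W e d' n') : d = d' ∧ (Even n ↔ Even n') := by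
  classical
  obtain ⟨ι, _, _, v, hι, hv, hdet, hsq, hspan⟩ := h1
  obtain ⟨κ, _, _, w, hκ, hw, hdet', hsq', hspan'⟩ := h2
  choose P hP using fun i => hspan (w i) (hw i)
  choose Q hQ using fun i => hspan' (v i) (hv i)
  have key : ∀ {ι κ : Type} [Fintype ι] [Fintype κ] (v : ι → V) (w : κ → V) (P : κ → ι → F),
      (∀ i, Killed a W e (v i)) → (∀ i, Killed a W e (w i)) →
      (∀ i y, Killed a W e y → H B a e (w i) y = ∑ k, P i k * H B a e (v k) y) →
      (Matrix.of fun i j => H B a e (w i) (w j)) =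
        Matrix.of P * (Matrix.of fun i j => H B a e (v i) (v j)) * (Matrix.of P).transpose := by
    intro ι κ _ _ v w P hv hw hP
    ext i j
    simp only [Matrix.mul_apply, Matrix.of_apply, Matrix.transpose_apply]
    rw [hP i _ (hw j)]
    simp only [Finset.sum_mul]
    rw [Finset.sum_comm]
    refine Finset.sum_congr rfl fun k _ => ?_
    rw [H_comm ha hB he (hw j).2, hP j _ (hv k), Finset.mul_sum, Finset.mul_sum]
    refine Finset.sum_congr rfl fun l _ => ?_
    rw [H_comm ha hB he (hv k).2 (x := v k) (y := v l)]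
    have : (-1 : F) ^ e * (-1 : F) ^ e = 1 := by rw [← mul_pow]; simp
    linear_combination P i k * P j l * H B a e (v k) (v l) * this
  have e1 := key v w P hv hw hP
  have e2 := key w v Q hw hv hQ
  have le : ∀ {ι κ : Type} [Fintype ι] [DecidableEq κ] [Fintype κ] (M : Matrix κ κ F) (P : Matrix κ ι F)
      (G : Matrix ι ι F), M = P * G * P.transpose → M.det ≠ 0 → Fintype.card κ ≤ Fintype.card ι := by
    intro ι κ _ _ _ M P G h hM
    calc Fintype.card κ = M.rank := (Matrix.rank_of_isUnit M ((Matrix.isUnit_iff_isUnit_det M).2 hM.isUnit)).symm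
      _ ≤ P.rank := by rw [h, Matrix.mul_assoc]; exact Matrix.rank_mul_le_left _ _
      _ ≤ Fintype.card ι := Matrix.rank_le_card_width P
  have hcard : Fintype.card κ = Fintype.card ι := le_antisymm (le _ _ _ e1 hdet') (le _ _ _ e2 hdet)
  refine ⟨hι.symm.trans (hcard.symm.trans hκ), hsq.symm.trans (Iff.trans ?_ hsq')⟩
  obtain σ := Fintype.equivOfCardEq hcard
  set G := (Matrix.of fun i j => H B a e (v i) (v j)) with hG
  set M := (Matrix.of fun i j => H B a e (w i) (w j)) with hM
  have e3 : M = (Matrix.of P).submatrix id σ * G.submatrix σ σ * ((Matrix.of P).submatrix id σ).transpose := by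
    rw [Matrix.transpose_submatrix, Matrix.submatrix_mul_equiv, Matrix.submatrix_mul_equiv]
    exact e1
  have hd := congrArg Matrix.det e3
  rw [Matrix.det_mul, Matrix.det_mul, Matrix.det_transpose, Matrix.det_submatrix_equiv_self] at hd
  set r := ((Matrix.of P).submatrix id σ).det
  have hr : r ≠ 0 := by
    intro h0
    rw [h0, mul_zero] at hd
    exact hdet' hd
  constructor
  · rintro ⟨s, hs⟩
    exact ⟨r * s, by rw [hd, hs]; ring⟩
  · rintro ⟨s, hs⟩
    refine ⟨r⁻¹ * s, ?_⟩
    rw [mul_mul_mul_comm, ← hs, hd]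
    field_simp

theorem map_sum_eq {L : List (Key F)} (f g : Key F → ℕ) (h : ∀ k ∈ L, f k = g k) : (L.map f).sum = (L.map g).sum := by
  rw [List.map_congr_left h]

/-- The labels of a normal unipotent decomposition are determined. -/
theorem perm_of_dec [Finite F] (ha : Isom B N a) (hB : B.IsAlt) (h2 : (2 : F) ≠ 0) {p : ℕ}
    {L L' : List (Key F)} {W : Submodule F V} (h : Dec B a L W) (h' : Dec B a L' W)
    (hU : ∀ k ∈ L, UKey p k) (hU' : ∀ k ∈ L', UKey p k)
    (hn : ∀ e, Multiset.count (Key.one true e false) (L : Multiset (Key F)) ≤ 1)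
    (hn' : ∀ e, Multiset.count (Key.one true e false) (L' : Multiset (Key F)) ≤ 1) :
    L.Perm L' := by
  classical
  have inv : ∀ e, 1 ≤ e →
      (L.map (Key.dimAt e)).sum = (L'.map (Key.dimAt e)).sum ∧
      (Even (L.map (Key.nsAt e)).sum ↔ Even (L'.map (Key.nsAt e)).sum) := fun e he =>
    (topData_dec ha hB h2 he h hU).unique ha hB he (topData_dec ha hB h2 he h' hU')
  have count_ns : ∀ (M : List (Key F)), (∀ k ∈ M, UKey p k) → ∀ e,
      (M.map (Key.nsAt e)).sum = M.count (Key.one true e false) := by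
    intro M hM e
    induction M with
    | nil => simp
    | cons k M ih =>
      have hk := hM k List.mem_cons_self
      rw [List.map_cons, List.sum_cons, ih fun x hx => hM x (List.mem_cons_of_mem _ hx), List.count_cons]
      rcases k with ⟨Q, f⟩ | ⟨b, f, s⟩ | ⟨b, f⟩
      · exact hk.elim
      · obtain ⟨rfl, -⟩ := hk
        by_cases hf : f = e <;> cases s <;> simp [Key.nsAt, hf, add_comm]
      · simp [Key.nsAt]
  have count_dim : ∀ (M : List (Key F)), (∀ k ∈ M, UKey p k) → ∀ e,
      (M.map (Key.dimAt e)).sum = M.count (Key.one true e false) + M.count (Key.one true e true) +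
        2 * M.count (Key.pair true e) := by
    intro M hM e
    induction M with
    | nil => simp
    | cons k M ih =>
      have hk := hM k List.mem_cons_self
      rw [List.map_cons, List.sum_cons, ih fun x hx => hM x (List.mem_cons_of_mem _ hx), List.count_cons,
        List.count_cons, List.count_cons]
      rcases k with ⟨Q, f⟩ | ⟨b, f, s⟩ | ⟨b, f⟩
      · exact hk.elim
      · obtain ⟨rfl, -⟩ := hk
        by_cases hf : f = e <;> cases s <;> simp [Key.dimAt, hf] <;> omega
      · obtain ⟨rfl, -⟩ := hk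
        by_cases hf : f = e <;> simp [Key.dimAt, hf] <;> omega
  have absent : ∀ (M : List (Key F)), (∀ k ∈ M, UKey p k) → ∀ k, ¬ UKey p k → M.count k = 0 := fun M hM k hk =>
    List.count_eq_zero.2 fun hmem => hk (hM k hmem)
  rw [List.perm_iff_count]
  intro k
  by_cases hk : UKey p k
  · rcases k with ⟨Q, f⟩ | ⟨b, f, s⟩ | ⟨b, f⟩
    · exact hk.elim
    · obtain ⟨rfl, hf, heven, -⟩ := hk
      obtain ⟨i1, i2⟩ := inv f hf
      rw [count_ns L hU, count_ns L' hU'] at i2
      rw [count_dim L hU, count_dim L' hU'] at i1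
      have z : ∀ M : List (Key F), (∀ k ∈ M, UKey p k) → M.count (Key.pair true f) = 0 := fun M hM =>
        absent M hM _ fun h => Nat.not_odd_iff_even.2 heven h.2.1
      rw [z L hU, z L' hU'] at i1
      have a1 := hn f
      have a2 := hn' f
      rw [Multiset.coe_count] at a1 a2
      rw [Nat.even_iff, Nat.even_iff] at i2
      cases s <;> omega
    · obtain ⟨rfl, hodd, -⟩ := hk
      obtain ⟨i1, -⟩ := inv f hodd.pos
      rw [count_dim L hU, count_dim L' hU'] at i1
      have z : ∀ (M : List (Key F)) (s : Bool), (∀ k ∈ M, UKey p k) → M.count (Key.one true f s) = 0 := fun M s hM =>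
        absent M hM _ fun h => Nat.not_even_iff_odd.2 hodd h.2.2.1
      rw [z L _ hU, z L _ hU, z L' _ hU', z L' _ hU'] at i1
      omega
  · rw [absent L hU k hk, absent L' hU' k hk]

end Cfsg.Lib.SympUnipClasses
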